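import Mathlib.Algebra.Homology.DerivedCategory.ExactFunctor
import Mathlib.Algebra.Homology.DerivedCategory.HomologySequence
import Mathlib.Algebra.Homology.ShortComplex.PreservesHomology

/-!
# Homology commutes with exact functors on derived categories
-/

set_option autoImplicit false
set_option backward.isDefEq.respectTransparency false

open CategoryTheory CategoryTheory.Limits

universe w w' v v' u u'

noncomputable section

namespace GrothLib.BCDVcomp

variable {C : Type u} [Category.{v} C] [Abelian C] [HasDerivedCategory.{w} C]
  {D : Type u'} [Category.{v'} D] [Abelian D] [HasDerivedCategory.{w'} D]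
  (F : C ⥤ D) [F.Additive] [PreservesFiniteLimits F] [PreservesFiniteColimits F]

/-- Homology of complexes commutes with an exact functor. -/
def complexHomologyIso (n : ℤ) :
    F.mapHomologicalComplex (ComplexShape.up ℤ) ⋙ HomologicalComplex.homologyFunctor D _ n ≅
      HomologicalComplex.homologyFunctor C (ComplexShape.up ℤ) n ⋙ F :=
  NatIso.ofComponents (fun K => (K.sc n).mapHomologyIso F)
    (fun {K L} f => ShortComplex.mapHomologyIso_hom_naturality
      ((HomologicalComplex.shortComplexFunctor C (ComplexShape.up ℤ) n).map f) F)

/-- Homology commutes with the functor induced on derived categories by an exact functor. -/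
def homologyMapDerivedIso (n : ℤ) :
    F.mapDerivedCategory ⋙ DerivedCategory.homologyFunctor D n ≅ DerivedCategory.homologyFunctor C n ⋙ F :=
  letI : Localization.Lifting DerivedCategory.Q (HomologicalComplex.quasiIso C (ComplexShape.up ℤ))
      (DerivedCategory.Q ⋙ F.mapDerivedCategory ⋙ DerivedCategory.homologyFunctor D n)
      (F.mapDerivedCategory ⋙ DerivedCategory.homologyFunctor D n) := ⟨Iso.refl _⟩
  letI : Localization.Lifting DerivedCategory.Q (HomologicalComplex.quasiIso C (ComplexShape.up ℤ))
      (DerivedCategory.Q ⋙ DerivedCategory.homologyFunctor C n ⋙ F)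
      (DerivedCategory.homologyFunctor C n ⋙ F) := ⟨Iso.refl _⟩
  Localization.liftNatIso DerivedCategory.Q (HomologicalComplex.quasiIso C (ComplexShape.up ℤ))
    (DerivedCategory.Q ⋙ F.mapDerivedCategory ⋙ DerivedCategory.homologyFunctor D n)
    (DerivedCategory.Q ⋙ DerivedCategory.homologyFunctor C n ⋙ F)
    _ _
    ((Functor.associator _ _ _).symm ≪≫
      Functor.isoWhiskerRight F.mapDerivedCategoryFactors _ ≪≫ Functor.associator _ _ _ ≪≫
      Functor.isoWhiskerLeft _ (DerivedCategory.homologyFunctorFactors D n) ≪≫
      complexHomologyIso F n ≪≫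
      Functor.isoWhiskerRight (DerivedCategory.homologyFunctorFactors C n).symm F ≪≫
      Functor.associator _ _ _)

end GrothLib.BCDVcomp
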