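import Groth.Agent.Lib.BCDVcomp.EtaleD

/-!
# Pasting and étale locality of the derived base change morphism
-/

set_option autoImplicit false
set_option backward.isDefEq.respectTransparency false
set_option backward.isDefEq.respectTransparency.types false
set_option linter.style.haveILetI false

universe u

open CategoryTheory CategoryTheory.Limits AlgebraicGeometry
attribute [local instance] HasDerivedCategory.standard

noncomputable section

namespace GrothLib.BCDVcomp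

variable {X S Y T : Scheme.{u}}

theorem hasRpushEt (f : X ⟶ S) : DCoh.HasRpushEt X f :=
  KInj.hasRightDerivedFunctor (DCoh.pushEtKh X f)

theorem nonempty_adj (f : X ⟶ S) [PreservesFiniteLimits (EtCoh.pull f)] [DCoh.HasRpushEt X f] :
    Nonempty (EtBC.pullD f ⊣ DCoh.RpushEt X f) :=
  KInj.nonempty_mapDerivedCategory_adj_totalRightDerived (EtCoh.pullPushAdj f)

theorem congr_bc (g : T ⟶ S) {f f' : X ⟶ S} (h : Y ⟶ X) {e e' : Y ⟶ T}
    [PreservesFiniteLimits (EtCoh.pull e)] [PreservesFiniteLimits (EtCoh.pull e')]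
    [PreservesFiniteLimits (EtCoh.pull f)] [PreservesFiniteLimits (EtCoh.pull f')]
    [DCoh.HasRpushEt T g] [DCoh.HasRpushEt Y h] [DCoh.HasRpushEt X f] [DCoh.HasRpushEt X f']
    (adj : EtBC.pullD f ⊣ DCoh.RpushEt X f) (adj' : EtBC.pullD f' ⊣ DCoh.RpushEt X f')
    (hf : f = f') (he : e = e') (w : e ≫ g = h ≫ f) (w' : e' ≫ g = h ≫ f') (K : DCoh.DEt T)
    (H : IsIso (EtBC.bcMap g f h e w adj K)) : IsIso (EtBC.bcMap g f' h e' w' adj' K) := by
  subst hf; subst he
  exact (isIso_symm_iff adj adj' _).1 H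

theorem isIso_bcMap_of_etale_local (f : X ⟶ S) (g : T ⟶ S) (h : Y ⟶ X) (e : Y ⟶ T)
    (c : IsPullback e h g f) [PreservesFiniteLimits (EtCoh.pull e)] [PreservesFiniteLimits (EtCoh.pull f)]
    [DCoh.HasRpushEt T g] [DCoh.HasRpushEt Y h] [DCoh.HasRpushEt X f] (adj : EtBC.pullD f ⊣ DCoh.RpushEt X f)
    (K : DCoh.DEt T)
    {ι : Type u} (U : ι → X.Etale) (hU : EtCoh.Covers U) (V : ι → S.Etale)
    (a : ∀ i, (U i).left ⟶ (V i).left) (ha : ∀ i, a i ≫ (V i).hom = (U i).hom ≫ f)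
    (Ti Yi : ι → Scheme.{u}) (gi : ∀ i, Ti i ⟶ (V i).left) (ti : ∀ i, Ti i ⟶ T)
    (cT : ∀ i, IsPullback (ti i) (gi i) g (V i).hom)
    (hi : ∀ i, Yi i ⟶ (U i).left) (ei : ∀ i, Yi i ⟶ Ti i) (cY : ∀ i, IsPullback (ei i) (hi i) (gi i) (a i))
    [∀ i, PreservesFiniteLimits (EtCoh.pull (ei i))] [∀ i, PreservesFiniteLimits (EtCoh.pull (a i))]
    [∀ i, PreservesFiniteLimits (EtCoh.pull (ti i))]
    [∀ i, DCoh.HasRpushEt (Ti i) (gi i)] [∀ i, DCoh.HasRpushEt (Yi i) (hi i)] [∀ i, DCoh.HasRpushEt (U i).left (a i)]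
    (adji : ∀ i, EtBC.pullD (a i) ⊣ DCoh.RpushEt (U i).left (a i))
    (hloc : ∀ i, IsIso (EtBC.bcMap (gi i) (a i) (hi i) (ei i) (cY i).w (adji i) ((EtBC.pullD (ti i)).obj K))) :
    IsIso (EtBC.bcMap g f h e c.w adj K) := by
  haveI := fun i => GrothLib.EtSite.pull_preservesFiniteLimits (U i).hom
  refine isIso_of_pullD_covers U hU _ fun i => ?_
  let u : (U i).left ⟶ X := (U i).hom
  let v : (V i).left ⟶ S := (V i).hom
  haveI : Etale u := (U i).prop
  haveI : Etale v := (V i).prop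
  haveI : PreservesFiniteLimits (EtCoh.pull u) := GrothLib.EtSite.pull_preservesFiniteLimits u
  haveI : PreservesFiniteLimits (EtCoh.pull v) := GrothLib.EtSite.pull_preservesFiniteLimits v
  have pB : IsPullback (ei i ≫ ti i) (hi i) g (a i ≫ v) := (cY i).paste_horiz (cT i)
  have wk : (ei i ≫ ti i) ≫ g = (hi i ≫ u) ≫ f := by rw [pB.w, ha i, Category.assoc]
  let k : Yi i ⟶ Y := c.lift (ei i ≫ ti i) (hi i ≫ u) wk
  have hke : k ≫ e = ei i ≫ ti i := c.lift_fst _ _ wk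
  have hkh : k ≫ h = hi i ≫ u := c.lift_snd _ _ wk
  have pA : IsPullback (k ≫ e) (hi i) g (u ≫ f) := by rw [hke, ← ha i]; exact pB
  have cU : IsPullback k (hi i) h u := IsPullback.of_right pA hkh c
  haveI := GrothLib.EtSite.pull_preservesFiniteLimits k
  haveI := GrothLib.EtSite.pull_preservesFiniteLimits (k ≫ e)
  haveI := GrothLib.EtSite.pull_preservesFiniteLimits (ei i ≫ ti i)
  haveI := GrothLib.EtSite.pull_preservesFiniteLimits (u ≫ f)
  haveI := GrothLib.EtSite.pull_preservesFiniteLimits (a i ≫ v)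
  haveI := hasRpushEt u
  haveI := hasRpushEt v
  haveI := hasRpushEt (u ≫ f)
  haveI := hasRpushEt (a i ≫ v)
  obtain ⟨adju⟩ := nonempty_adj u
  obtain ⟨adjv⟩ := nonempty_adj v
  obtain ⟨adjA⟩ := nonempty_adj (u ≫ f)
  obtain ⟨adjB⟩ := nonempty_adj (a i ≫ v)
  have hA := vcomp_iff f g h e c.w u (hi i) k hkh pA.w adj adju adjA K
    (isIso_bcMap_of_etale h u (hi i) k cU adju _)
  have hB : IsIso (EtBC.bcMap g (a i ≫ v) (hi i) (ei i ≫ ti i) pB.w adjB K) :=
    (vcomp_iff v g (gi i) (ti i) (cT i).w (a i) (hi i) (ei i) (cY i).w pB.w adjv (adji i) adjB K (hloc i)).2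
      (by
        haveI := isIso_bcMap_of_etale g v (gi i) (ti i) (cT i) adjv K
        exact Functor.map_isIso _ _)
  exact hA.1 (congr_bc g (hi i) adjB adjA (ha i) hke.symm pB.w pA.w K hB)

end GrothLib.BCDVcomp
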