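import Mathlib.CategoryTheory.Adjunction.Unique
import Mathlib.CategoryTheory.Adjunction.Opposites

/-!
# Pasting of base change morphisms between derived functors, abstractly
-/

set_option autoImplicit false
set_option backward.isDefEq.respectTransparency false

open CategoryTheory

universe v₁ v₂ v₃ v₄ v₅ v₆ w₁ w₂ w₃ w₄ w₅ w₆ v u v' u'

noncomputable section

namespace GrothLib.BCDVcomp

section Adj

variable {C : Type w₁} [Category.{v₁} C] {D : Type w₂} [Category.{v₂} D]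

/-- Whether a transpose is an isomorphism does not depend on the adjunction. -/
theorem isIso_symm_iff {L L' : C ⥤ D} {R : D ⥤ C} (adj : L ⊣ R) (adj' : L' ⊣ R) {X : C} {Y : D}
    (φ : X ⟶ R.obj Y) :
    IsIso ((adj.homEquiv X Y).symm φ) ↔ IsIso ((adj'.homEquiv X Y).symm φ) := by
  have h : (adj.homEquiv X Y).symm φ =
      (Adjunction.leftAdjointUniq adj adj').hom.app X ≫ (adj'.homEquiv X Y).symm φ := by
    rw [Equiv.symm_apply_eq, Adjunction.homEquiv_naturality_right,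
      Adjunction.homEquiv_leftAdjointUniq_hom_app, ← Adjunction.homEquiv_unit, Equiv.apply_symm_apply]
  rw [h, isIso_comp_left_iff]

/-- Transposing against an isomorphic right adjoint. -/
theorem ofNatIsoRight_symm {L : C ⥤ D} {R R' : D ⥤ C} (adj : L ⊣ R) (α : R ≅ R') {X : C} {Y : D}
    (φ : X ⟶ R'.obj Y) :
    ((adj.ofNatIsoRight α).homEquiv X Y).symm φ = (adj.homEquiv X Y).symm (φ ≫ α.inv.app Y) := by
  rw [Equiv.symm_apply_eq]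
  have h : ∀ ψ, (adj.ofNatIsoRight α).homEquiv X Y ψ = adj.homEquiv X Y ψ ≫ α.hom.app Y := fun ψ => by
    rw [Adjunction.homEquiv_unit, Adjunction.homEquiv_unit]
    simp [Adjunction.ofNatIsoRight, Adjunction.homEquiv_unit]
  rw [h, Equiv.apply_symm_apply, Category.assoc, Iso.inv_hom_id_app, Category.comp_id]

variable {B : Type w₃} [Category.{v₃} B]

/-- Two transposes are related by pasting. -/
theorem isIso_bc_iff {Lf : C ⥤ D} {Rf : D ⥤ C} {Li : D ⥤ B} {Ri : B ⥤ D} {L₃ : C ⥤ B} {R₃ : B ⥤ C}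
    (adj₁ : Lf ⊣ Rf) (adj₂ : Li ⊣ Ri) (adj₃ : L₃ ⊣ R₃) (θ : R₃ ≅ Ri ⋙ Rf) {X : C} {Y : D} {Z Z' : B}
    (a₁ : X ⟶ Rf.obj Y) (a₂ : Y ⟶ Ri.obj Z) (a₃ : X ⟶ R₃.obj Z') (β : Z ⟶ Z') [IsIso β]
    (heq : a₃ ≫ θ.hom.app Z' = a₁ ≫ Rf.map a₂ ≫ Rf.map (Ri.map β))
    (h2 : IsIso ((adj₂.homEquiv _ _).symm a₂)) :
    IsIso ((adj₃.homEquiv _ _).symm a₃) ↔ IsIso (Li.map ((adj₁.homEquiv _ _).symm a₁)) := by
  have h : (((adj₁.comp adj₂).ofNatIsoRight θ.symm).homEquiv X Z').symm a₃ =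
      Li.map ((adj₁.homEquiv _ _).symm a₁) ≫ (adj₂.homEquiv _ _).symm a₂ ≫ β := by
    rw [ofNatIsoRight_symm, Iso.symm_inv, heq, Adjunction.comp_homEquiv, Equiv.symm_trans_apply,
      ← Functor.map_comp]
    erw [Adjunction.homEquiv_naturality_right_symm, Adjunction.homEquiv_naturality_left_symm,
      Adjunction.homEquiv_naturality_right_symm]
  rw [isIso_symm_iff adj₃ ((adj₁.comp adj₂).ofNatIsoRight θ.symm), h, isIso_comp_right_iff]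

end Adj

section Paste

variable {KT KS KY KX KZ KW : Type u} {DT DS DY DX DZ DW : Type u'}
  [Category.{v} KT] [Category.{v} KS] [Category.{v} KY] [Category.{v} KX] [Category.{v} KZ] [Category.{v} KW]
  [Category.{v'} DT] [Category.{v'} DS] [Category.{v'} DY] [Category.{v'} DX] [Category.{v'} DZ] [Category.{v'} DW]
  {QT : KT ⥤ DT} {QS : KS ⥤ DS} {QY : KY ⥤ DY} {QX : KX ⥤ DX} {QZ : KZ ⥤ DZ} {QW : KW ⥤ DW}
  {G : KT ⥤ KS} {H : KY ⥤ KX} {J : KZ ⥤ KW} {F : KX ⥤ KS} {I : KW ⥤ KX} {Fi : KW ⥤ KS}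
  {E : KT ⥤ KY} {Kk : KY ⥤ KZ} {EK : KT ⥤ KZ}
  {RG : DT ⥤ DS} {RH : DY ⥤ DX} {RJ : DZ ⥤ DW} {RF : DX ⥤ DS} {RI : DW ⥤ DX} {RFi : DW ⥤ DS}
  {ED : DT ⥤ DY} {KD : DY ⥤ DZ} {EKD : DT ⥤ DZ}
  (UG : G ⋙ QS ⟶ QT ⋙ RG) (UH : H ⋙ QX ⟶ QY ⋙ RH) (UJ : J ⋙ QW ⟶ QZ ⋙ RJ)
  (UF : F ⋙ QS ⟶ QX ⋙ RF) (UI : I ⋙ QX ⟶ QW ⋙ RI) (UFi : Fi ⋙ QS ⟶ QW ⋙ RFi)
  (facE : QT ⋙ ED ≅ E ⋙ QY) (facK : QY ⋙ KD ≅ Kk ⋙ QZ) (facEK : QT ⋙ EKD ≅ EK ⋙ QZ)
  (P1 : G ⟶ E ⋙ H ⋙ F) (P2 : H ⟶ Kk ⋙ J ⋙ I) (P3 : G ⟶ EK ⋙ J ⋙ Fi) (c : Fi ⟶ I ⋙ F)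
  (θ : RFi ⟶ RI ⋙ RF)
  (A1 : RG ⟶ ED ⋙ RH ⋙ RF) (A2 : RH ⟶ KD ⋙ RJ ⋙ RI) (A3 : RG ⟶ EKD ⋙ RJ ⋙ RFi)

theorem paste_eq (K : KT) (γ : Kk.obj (E.obj K) ⟶ EK.obj K)
    (hθ : ∀ M, UFi.app M ≫ θ.app (QW.obj M) =
      QS.map (c.app M) ≫ UF.app (I.obj M) ≫ RF.map (UI.app M))
    (hA1 : UG.app K ≫ A1.app (QT.obj K) =
      QS.map (P1.app K) ≫ UF.app (H.obj (E.obj K)) ≫ RF.map (UH.app (E.obj K)) ≫
        RF.map (RH.map (facE.inv.app K)))
    (hA2 : UH.app (E.obj K) ≫ A2.app (QY.obj (E.obj K)) =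
      QX.map (P2.app (E.obj K)) ≫ UI.app (J.obj (Kk.obj (E.obj K))) ≫ RI.map (UJ.app (Kk.obj (E.obj K))) ≫
        RI.map (RJ.map (facK.inv.app (E.obj K))))
    (hA3 : UG.app K ≫ A3.app (QT.obj K) =
      QS.map (P3.app K) ≫ UFi.app (J.obj (EK.obj K)) ≫ RFi.map (UJ.app (EK.obj K)) ≫
        RFi.map (RJ.map (facEK.inv.app K)))
    (hP : P3.app K ≫ c.app _ = P1.app K ≫ F.map (P2.app (E.obj K)) ≫ F.map (I.map (J.map γ)))
    (hU : IsIso (UG.app K)) :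
    A3.app (QT.obj K) ≫ θ.app _ =
      A1.app (QT.obj K) ≫ RF.map (A2.app (ED.obj (QT.obj K))) ≫
        RF.map (RI.map (RJ.map (KD.map (facE.hom.app K) ≫ facK.hom.app (E.obj K) ≫ QZ.map γ ≫
          facEK.inv.app K))) := by
  rw [← cancel_epi (UG.app K), reassoc_of% hA3, reassoc_of% hA1]
  have n1 : RH.map (facE.inv.app K) ≫ A2.app (ED.obj (QT.obj K)) =
      A2.app (QY.obj (E.obj K)) ≫ RI.map (RJ.map (KD.map (facE.inv.app K))) := A2.naturality _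
  have n2 : RFi.map (RJ.map (facEK.inv.app K)) ≫ θ.app _ =
      θ.app _ ≫ RF.map (RI.map (RJ.map (facEK.inv.app K))) := θ.naturality _
  have n3 : RFi.map (UJ.app (EK.obj K)) ≫ θ.app _ = θ.app _ ≫ RF.map (RI.map (UJ.app (EK.obj K))) :=
    θ.naturality _
  erw [n2, reassoc_of% n3, reassoc_of% hθ (J.obj (EK.obj K))]
  simp only [← Functor.map_comp]
  erw [reassoc_of% n1]
  simp only [Functor.comp_obj, ← Functor.map_comp, ← Functor.map_comp_assoc, Category.assoc,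
    Iso.inv_hom_id_app_assoc, Iso.inv_hom_id_app]
  erw [reassoc_of% hA2]
  simp only [← Functor.map_comp, ← Functor.map_comp_assoc, Category.assoc]
  have e1 : QS.map (P3.app K ≫ c.app _) =
      QS.map (P1.app K) ≫ QS.map (F.map (P2.app (E.obj K) ≫ I.map (J.map γ))) := by
    rw [← QS.map_comp, hP, F.map_comp]
  rw [e1, Category.assoc]
  refine congrArg (QS.map (P1.app K) ≫ ·) ?_
  erw [UF.naturality_assoc]
  simp only [Functor.comp_map, ← Functor.map_comp, ← Functor.map_comp_assoc, Category.assoc]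
  refine congrArg (fun t => UF.app _ ≫ RF.map t) ?_
  rw [Functor.map_comp QX]
  simp only [Category.assoc]
  refine congrArg (QX.map (P2.app (E.obj K)) ≫ ·) ?_
  erw [UI.naturality_assoc]
  simp only [Functor.comp_map, ← Functor.map_comp, ← Functor.map_comp_assoc, Category.assoc]
  refine congrArg (fun t => UI.app _ ≫ RI.map t) ?_
  erw [UJ.naturality_assoc]
  simp [← Functor.map_comp, ← Functor.map_comp_assoc]

end Paste

end GrothLib.BCDVcomp
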