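import Mathlib.Algebra.Homology.HomotopyCategory

/-!
# Componentwise identities on homotopy categories
-/

set_option autoImplicit false
set_option backward.isDefEq.respectTransparency false
set_option backward.isDefEq.respectTransparency.types false

open CategoryTheory CategoryTheory.Limits

universe v u

noncomputable section

namespace GrothLib.BCDVcomp

variable {ι : Type*} (c : ComplexShape ι) {T S Y X Z W : Type u}
  [Category.{v} T] [Preadditive T] [Category.{v} S] [Preadditive S] [Category.{v} Y] [Preadditive Y]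
  [Category.{v} X] [Preadditive X] [Category.{v} Z] [Preadditive Z] [Category.{v} W] [Preadditive W]
  {G : T ⥤ S} {H : Y ⥤ X} {J : Z ⥤ W} {F : X ⥤ S} {I : W ⥤ X} {Fi : W ⥤ S}
  {E : T ⥤ Y} {Kk : Y ⥤ Z} {EK : T ⥤ Z}
  [G.Additive] [H.Additive] [J.Additive] [F.Additive] [I.Additive] [Fi.Additive]
  [E.Additive] [Kk.Additive] [EK.Additive]

/-- A transformation into a triple composite, on homotopy categories. -/
def mapH₃ (α : G ⟶ E ⋙ H ⋙ F) :
    G.mapHomotopyCategory c ⟶ E.mapHomotopyCategory c ⋙ H.mapHomotopyCategory c ⋙ F.mapHomotopyCategory c :=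
  NatTrans.mapHomotopyCategory α c ≫
    (Functor.mapHomotopyCategoryCompIso (Iso.refl (E ⋙ (H ⋙ F))) c).inv ≫
    Functor.whiskerLeft (E.mapHomotopyCategory c)
      (Functor.mapHomotopyCategoryCompIso (Iso.refl (H ⋙ F)) c).inv

/-- A transformation into a double composite, on homotopy categories. -/
def mapH₂ (α : Fi ⟶ I ⋙ F) :
    Fi.mapHomotopyCategory c ⟶ I.mapHomotopyCategory c ⋙ F.mapHomotopyCategory c :=
  NatTrans.mapHomotopyCategory α c ≫ (Functor.mapHomotopyCategoryCompIso (Iso.refl (I ⋙ F)) c).inv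

/-- The comparison of a composite on objects of the homotopy category. -/
def compH (β : E ⋙ Kk ≅ EK) (K : HomotopyCategory T c) :
    (Kk.mapHomotopyCategory c).obj ((E.mapHomotopyCategory c).obj K) ≅ (EK.mapHomotopyCategory c).obj K :=
  (HomotopyCategory.quotient _ _).mapIso (HomologicalComplex.Hom.isoOfComponents
    (fun n => β.app (K.as.X n)) (fun m n _ => (β.hom.naturality (K.as.d m n)).symm))

theorem mapH_paste (α₁ : G ⟶ E ⋙ H ⋙ F) (α₂ : H ⟶ Kk ⋙ J ⋙ I) (α₃ : G ⟶ EK ⋙ J ⋙ Fi) (γ : Fi ⟶ I ⋙ F)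
    (β : E ⋙ Kk ≅ EK)
    (hpaste : ∀ N, α₃.app N ≫ γ.app (J.obj (EK.obj N)) =
      α₁.app N ≫ F.map (α₂.app (E.obj N)) ≫ F.map (I.map (J.map (β.hom.app N))))
    (K : HomotopyCategory T c) :
    (mapH₃ c α₃).app K ≫ (mapH₂ c γ).app _ =
      (mapH₃ c α₁).app K ≫ (F.mapHomotopyCategory c).map ((mapH₃ c α₂).app _) ≫
        (F.mapHomotopyCategory c).map ((I.mapHomotopyCategory c).map
          ((J.mapHomotopyCategory c).map (compH c β K).hom)) := by
  obtain ⟨C⟩ := K
  simp only [mapH₃, mapH₂, compH, Functor.mapHomotopyCategoryCompIso, NatTrans.comp_app,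
    Functor.whiskerLeft_app, NatTrans.mapHomotopyCategory_app]
  dsimp [Quotient.natIsoLift, Quotient.natTransLift]
  simp only [← Functor.map_comp]
  congr 1
  ext n
  simp
  repeat erw [Category.id_comp]
  repeat erw [Category.comp_id]
  repeat erw [CategoryTheory.Functor.map_id]
  repeat erw [Category.id_comp]
  exact hpaste _

end GrothLib.BCDVcomp
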