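import Groth.Agent.Lib.BCDVcomp.Abstract
import Groth.Agent.Lib.BCDVcomp.Htpy
import Groth.Agent.Lib.BCQVcomp.Etale
import Groth.Agent.Lib.BCDVcomp.Derived
import Groth.Prelude.Def_EtBCD

/-!
# Pasting of base change morphisms on derived categories of étale sheaves
-/

set_option autoImplicit false
set_option backward.isDefEq.respectTransparency false
set_option backward.isDefEq.respectTransparency.types false
set_option linter.style.haveILetI false

universe u

open CategoryTheory CategoryTheory.Limits AlgebraicGeometry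
attribute [local instance] HasDerivedCategory.standard

noncomputable section

namespace GrothLib.BCDVcomp

open GrothLib.BCQVcomp (sqIso sqIso_vcomp)

variable {X S Y T W Z : Scheme.{u}} (f : X ⟶ S) (g : T ⟶ S) (h : Y ⟶ X) (e : Y ⟶ T)
  (w₁ : e ≫ g = h ≫ f) (i : W ⟶ X) (j : Z ⟶ W) (k : Z ⟶ Y) (w₂ : k ≫ h = j ≫ i)
  (w₃ : (k ≫ e) ≫ g = j ≫ i ≫ f)

theorem pushToPushPull_app (F : EtCoh.Ab T) :
    (EtBC.pushToPushPull g f h e w₁).app F =
      (EtCoh.push g).map ((EtCoh.pullPushAdj e).unit.app F) ≫ (sqIso g f h e w₁).hom.app _ := by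
  simp [EtBC.pushToPushPull]

/-- The comparison `k⁻¹ e⁻¹ ⟶ (k ≫ e)⁻¹`. -/
def γ : EtCoh.pull e ⋙ EtCoh.pull k ≅ EtCoh.pull (k ≫ e) :=
  (Adjunction.leftAdjointUniq (EtCoh.pullPushAdj (k ≫ e))
    (((EtCoh.pullPushAdj e).comp (EtCoh.pullPushAdj k)).ofNatIsoRight (EtCoh.pushComp e k))).symm

theorem sheaf_paste (N : EtCoh.Ab T) :
    (EtBC.pushToPushPull g (i ≫ f) j (k ≫ e) w₃).app N ≫ (EtCoh.pushComp f i).inv.app _ =
      (EtBC.pushToPushPull g f h e w₁).app N ≫
        (EtCoh.push f).map ((EtBC.pushToPushPull h i j k w₂).app ((EtCoh.pull e).obj N)) ≫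
          (EtCoh.push f).map ((EtCoh.push i).map ((EtCoh.push j).map ((γ e k).hom.app N))) := by
  simp only [pushToPushPull_app]
  let adjEK := ((EtCoh.pullPushAdj e).comp (EtCoh.pullPushAdj k)).ofNatIsoRight (EtCoh.pushComp e k)
  have hu : (EtCoh.pullPushAdj (k ≫ e)).unit.app N =
      adjEK.unit.app N ≫ (EtCoh.push (k ≫ e)).map ((γ e k).hom.app N) := by
    rw [show adjEK.unit.app N = (EtCoh.pullPushAdj (k ≫ e)).unit.app N ≫
        (EtCoh.push (k ≫ e)).map ((γ e k).inv.app N) from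
      (Adjunction.unit_leftAdjointUniq_hom_app (EtCoh.pullPushAdj (k ≫ e)) adjEK N).symm,
      Category.assoc, ← Functor.map_comp, Iso.inv_hom_id_app, CategoryTheory.Functor.map_id]
    exact (Category.comp_id _).symm
  have hunit : adjEK.unit.app N = (EtCoh.pullPushAdj e).unit.app N ≫
      (EtCoh.push e).map ((EtCoh.pullPushAdj k).unit.app _) ≫ (EtCoh.pushComp e k).hom.app _ := by
    simp [adjEK, Adjunction.ofNatIsoRight, Adjunction.comp, Adjunction.homEquiv_unit]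
  rw [hu, hunit]
  simp only [Functor.map_comp, Category.assoc]
  refine congrArg ((EtCoh.push g).map ((EtCoh.pullPushAdj e).unit.app N) ≫ ·) ?_
  let M := (EtCoh.pull k).obj ((EtCoh.pull e).obj N)
  let γN : M ⟶ (EtCoh.pull (k ≫ e)).obj N := (γ e k).hom.app N
  let S3 := sqIso g (i ≫ f) j (k ≫ e) w₃
  let S1 := sqIso g f h e w₁
  let S2 := sqIso h i j k w₂
  have n3 : (EtCoh.push g).map ((EtCoh.push (k ≫ e)).map γN) ≫ S3.hom.app _ =
      S3.hom.app M ≫ (EtCoh.push (i ≫ f)).map ((EtCoh.push j).map γN) := S3.hom.naturality γN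
  have n4 : (EtCoh.push (i ≫ f)).map ((EtCoh.push j).map γN) ≫ (EtCoh.pushComp f i).inv.app _ =
      (EtCoh.pushComp f i).inv.app _ ≫ (EtCoh.push f).map ((EtCoh.push i).map ((EtCoh.push j).map γN)) :=
    (EtCoh.pushComp f i).inv.naturality ((EtCoh.push j).map γN)
  erw [reassoc_of% n3, n4, reassoc_of% sqIso_vcomp f g h e w₁ i j k w₂ w₃ M]
  erw [Iso.hom_inv_id_app_assoc]
  have n1 : (EtCoh.push g).map ((EtCoh.push e).map ((EtCoh.pullPushAdj k).unit.app ((EtCoh.pull e).obj N))) ≫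
      S1.hom.app _ = S1.hom.app _ ≫ (EtCoh.push f).map ((EtCoh.push h).map
        ((EtCoh.pullPushAdj k).unit.app ((EtCoh.pull e).obj N))) := S1.hom.naturality _
  erw [reassoc_of% n1]

section Derived

open HomotopyCategory (subcategoryAcyclic)

variable [PreservesFiniteLimits (EtCoh.pull e)] [DCoh.HasRpushEt T g] [DCoh.HasRpushEt Y h]
  [DCoh.HasRpushEt X f]

/-- The unit of the derived direct image. -/
abbrev U {A B : Scheme.{u}} (p : A ⟶ B) [DCoh.HasRpushEt A p] :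
    (EtCoh.push p).mapHomotopyCategory (ComplexShape.up ℤ) ⋙ DerivedCategory.Qh ⟶
      DerivedCategory.Qh ⋙ DCoh.RpushEt A p :=
  (DCoh.pushEtKh A p).totalRightDerivedUnit DerivedCategory.Qh
    (HomotopyCategory.quasiIso (EtCoh.Ab A) (ComplexShape.up ℤ))

theorem bcAdj_fac (K : HomotopyCategory (EtCoh.Ab T) (ComplexShape.up ℤ)) :
    (U g).app K ≫ (EtBC.bcAdj g f h e w₁).app (DerivedCategory.Qh.obj K) =
      DerivedCategory.Qh.map ((mapH₃ _ (EtBC.pushToPushPull g f h e w₁)).app K) ≫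
        (U f).app (((EtCoh.push h).mapHomotopyCategory _).obj (((EtCoh.pull e).mapHomotopyCategory _).obj K)) ≫
        (DCoh.RpushEt X f).map ((U h).app (((EtCoh.pull e).mapHomotopyCategory _).obj K)) ≫
        (DCoh.RpushEt X f).map ((DCoh.RpushEt Y h).map
          ((EtCoh.pull e).mapDerivedCategoryFactorsh.inv.app K)) := by
  rw [EtBC.bcAdj, Functor.rightDerived_fac_app]
  simp only [EtBC.bcUnit, NatTrans.comp_app, Functor.whiskerLeft_app, Functor.whiskerRight_app,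
    Functor.associator_hom_app, Functor.associator_inv_app, Functor.comp_map]
  repeat erw [Category.id_comp]
  repeat erw [Category.comp_id]
  simp only [Category.assoc]
  repeat erw [Category.id_comp]
  rfl

theorem compMap_fac [DCoh.HasRpushEt W i] [DCoh.HasRpushEt W (i ≫ f)]
    (M : HomotopyCategory (EtCoh.Ab W) (ComplexShape.up ℤ)) :
    (U (i ≫ f)).app M ≫ (EtSix.compMap i f).app (DerivedCategory.Qh.obj M) =
      DerivedCategory.Qh.map ((mapH₂ _ (EtCoh.pushComp f i).inv).app M) ≫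
        (U f).app (((EtCoh.push i).mapHomotopyCategory _).obj M) ≫
        (DCoh.RpushEt X f).map ((U i).app M) := by
  rw [EtSix.compMap, Functor.rightDerived_fac_app]
  simp only [EtSix.compUnit, NatTrans.comp_app, Functor.whiskerLeft_app, Functor.whiskerRight_app,
    Functor.associator_hom_app, Functor.associator_inv_app, Functor.comp_map]
  repeat erw [Category.id_comp]
  repeat erw [Category.comp_id]
  rfl

theorem bcMap_naturality [PreservesFiniteLimits (EtCoh.pull f)] (adj : EtBC.pullD f ⊣ DCoh.RpushEt X f) {K K' : DCoh.DEt T} (a : K ⟶ K') :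
    (EtBC.pullD f).map ((DCoh.RpushEt T g).map a) ≫ EtBC.bcMap g f h e w₁ adj K' =
      EtBC.bcMap g f h e w₁ adj K ≫ (DCoh.RpushEt Y h).map ((EtBC.pullD e).map a) := by
  dsimp only [EtBC.bcMap]
  rw [← Adjunction.homEquiv_naturality_left_symm, ← Adjunction.homEquiv_naturality_right_symm]
  exact congrArg _ ((EtBC.bcAdj g f h e w₁).naturality a)

theorem bcMap_isIso_congr [PreservesFiniteLimits (EtCoh.pull f)] (adj : EtBC.pullD f ⊣ DCoh.RpushEt X f) {K K' : DCoh.DEt T} (a : K ≅ K') :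
    IsIso (EtBC.bcMap g f h e w₁ adj K') ↔ IsIso (EtBC.bcMap g f h e w₁ adj K) := by
  have h1 := bcMap_naturality f g h e w₁ adj a.hom
  constructor <;> intro h2
  · haveI : IsIso ((EtBC.pullD f).map ((DCoh.RpushEt T g).map a.hom) ≫ EtBC.bcMap g f h e w₁ adj K') :=
      inferInstance
    rw [h1] at this
    exact (isIso_comp_right_iff _ _).1 this
  · haveI : IsIso (EtBC.bcMap g f h e w₁ adj K ≫ (DCoh.RpushEt Y h).map ((EtBC.pullD e).map a.hom)) :=
      inferInstance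
    rw [← h1] at this
    exact (isIso_comp_left_iff _ _).1 this

variable [PreservesFiniteLimits (EtCoh.pull f)] [PreservesFiniteLimits (EtCoh.pull i)]
  [PreservesFiniteLimits (EtCoh.pull (i ≫ f))] [PreservesFiniteLimits (EtCoh.pull k)]
  [PreservesFiniteLimits (EtCoh.pull (k ≫ e))]
  [DCoh.HasRpushEt Z j] [DCoh.HasRpushEt W i] [DCoh.HasRpushEt W (i ≫ f)]

theorem vcomp_iff (adj₁ : EtBC.pullD f ⊣ DCoh.RpushEt X f) (adj₂ : EtBC.pullD i ⊣ DCoh.RpushEt W i)
    (adj₃ : EtBC.pullD (i ≫ f) ⊣ DCoh.RpushEt W (i ≫ f)) (K : DCoh.DEt T)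
    (h2 : IsIso (EtBC.bcMap h i j k w₂ adj₂ ((EtBC.pullD e).obj K))) :
    IsIso (EtBC.bcMap g (i ≫ f) j (k ≫ e) w₃ adj₃ K) ↔
      IsIso ((EtBC.pullD i).map (EtBC.bcMap g f h e w₁ adj₁ K)) := by
  haveI := isIso_compMap i f
  let K₀ := (KInj.res (EtCoh.Ab T)).obj K
  let ε : DerivedCategory.Qh.obj K₀ ≅ K := asIso ((KInj.resAdj (EtCoh.Ab T)).counit.app K)
  rw [← bcMap_isIso_congr i h j k w₂ adj₂ ((EtBC.pullD e).mapIso ε).symm] at h2
  rw [bcMap_isIso_congr (i ≫ f) g j (k ≫ e) w₃ adj₃ ε]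
  have hr : IsIso ((EtBC.pullD i).map (EtBC.bcMap g f h e w₁ adj₁ K)) ↔
      IsIso ((EtBC.pullD i).map (EtBC.bcMap g f h e w₁ adj₁ (DerivedCategory.Qh.obj K₀))) := by
    have h1 := congrArg (EtBC.pullD i).map (bcMap_naturality f g h e w₁ adj₁ ε.hom)
    rw [Functor.map_comp, Functor.map_comp] at h1
    have h3 := congrArg IsIso h1
    rw [isIso_comp_left_iff, isIso_comp_right_iff] at h3
    rw [h3]
  rw [hr]
  haveI : IsIso ((U g).app K₀) :=
    isIso_derivedUnit (DCoh.pushEtKh T g) (KInj.rightOrthogonal_res K)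
  let θ : DCoh.RpushEt W (i ≫ f) ≅ DCoh.RpushEt W i ⋙ DCoh.RpushEt X f := asIso (EtSix.compMap i f)
  let β := (EtBC.pullD k).map ((EtCoh.pull e).mapDerivedCategoryFactorsh.hom.app K₀) ≫
    (EtCoh.pull k).mapDerivedCategoryFactorsh.hom.app _ ≫
      DerivedCategory.Qh.map (compH _ (γ e k) K₀).hom ≫ (EtCoh.pull (k ≫ e)).mapDerivedCategoryFactorsh.inv.app K₀
  have heq : (EtBC.bcAdj g (i ≫ f) j (k ≫ e) w₃).app (DerivedCategory.Qh.obj K₀) ≫ (EtSix.compMap i f).app _ =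
      (EtBC.bcAdj g f h e w₁).app (DerivedCategory.Qh.obj K₀) ≫
        (DCoh.RpushEt X f).map ((EtBC.bcAdj h i j k w₂).app _) ≫
          (DCoh.RpushEt X f).map ((DCoh.RpushEt W i).map ((DCoh.RpushEt Z j).map β)) :=
    paste_eq (U g) (U h) (U j) (U f) (U i) (U (i ≫ f))
      (EtCoh.pull e).mapDerivedCategoryFactorsh (EtCoh.pull k).mapDerivedCategoryFactorsh
      (EtCoh.pull (k ≫ e)).mapDerivedCategoryFactorsh
      (mapH₃ _ (EtBC.pushToPushPull g f h e w₁)) (mapH₃ _ (EtBC.pushToPushPull h i j k w₂))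
      (mapH₃ _ (EtBC.pushToPushPull g (i ≫ f) j (k ≫ e) w₃)) (mapH₂ _ (EtCoh.pushComp f i).inv)
      (EtSix.compMap i f) (EtBC.bcAdj g f h e w₁) (EtBC.bcAdj h i j k w₂)
      (EtBC.bcAdj g (i ≫ f) j (k ≫ e) w₃) K₀ (compH _ (γ e k) K₀).hom
      (fun M => compMap_fac f i M) (bcAdj_fac f g h e w₁ K₀) (bcAdj_fac i h j k w₂ _)
      (bcAdj_fac (i ≫ f) g j (k ≫ e) w₃ K₀)
      (mapH_paste _ _ _ _ _ (γ e k) (sheaf_paste f g h e w₁ i j k w₂ w₃) K₀) inferInstance
  exact isIso_bc_iff adj₁ adj₂ adj₃ θ _ _ _ ((DCoh.RpushEt Z j).map β) heq h2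

end Derived

end GrothLib.BCDVcomp
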