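import Groth.Agent.Lib.BCDVcomp.Htpy
import Groth.Agent.Lib.KInj.Adjoint
import Mathlib.CategoryTheory.Yoneda

/-!
# Transposes of maps out of objects computed on resolutions
-/

set_option autoImplicit false
set_option backward.isDefEq.respectTransparency false
set_option backward.isDefEq.respectTransparency.types false

open CategoryTheory CategoryTheory.Limits

universe v u v' u' v₁ v₂ v₃ v₄ w₁ w₂ w₃ w₄

noncomputable section

namespace GrothLib.BCDVcomp

section Universal

variable {KX : Type w₁} [Category.{v₁} KX] {KS : Type w₂} [Category.{v₂} KS]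
  {DX : Type w₃} [Category.{v₃} DX] {DS : Type w₄} [Category.{v₄} DS]
  {QX : KX ⥤ DX} {QS : KS ⥤ DS} {Lk : KS ⥤ KX} {Fk : KX ⥤ KS} {LD : DS ⥤ DX} {RF : DX ⥤ DS}

theorem isIso_symm_of_resolutions (adjK : Lk ⊣ Fk) (UF : Fk ⋙ QS ⟶ QX ⋙ RF) (adjD : LD ⊣ RF)
    (P : KX → Prop) (hP : ∀ D : DX, ∃ I, P I ∧ Nonempty (QX.obj I ≅ D))
    (hX : ∀ Z I, P I → Function.Bijective (QX.map : (Z ⟶ I) → _))
    (hS : ∀ A I, P I → Function.Bijective (QS.map : (A ⟶ Fk.obj I) → _))
    (hU : ∀ I, P I → IsIso (UF.app I)) {A : KS} {M : KX} (p : A ⟶ Fk.obj M)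
    (hp : IsIso ((adjK.homEquiv _ _).symm p)) :
    IsIso ((adjD.homEquiv _ _).symm (QS.map p ≫ UF.app M)) := by
  set x := (adjD.homEquiv _ _).symm (QS.map p ≫ UF.app M) with hx
  have key : ∀ D : DX, Function.Bijective (fun b : QX.obj M ⟶ D => x ≫ b) := fun D => by
    obtain ⟨I, hI, ⟨e⟩⟩ := hP D
    haveI := hU I hI
    have hb : ∀ b : M ⟶ I, x ≫ QX.map b = (adjD.homEquiv _ _).symm
        (QS.map ((adjK.homEquiv _ _) ((adjK.homEquiv _ _).symm p ≫ b)) ≫ UF.app I) := fun b => by
      rw [hx, ← Adjunction.homEquiv_naturality_right_symm, adjK.homEquiv_naturality_right, Equiv.apply_symm_apply,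
        QS.map_comp, Category.assoc, Category.assoc]
      exact congrArg (fun t => (adjD.homEquiv _ _).symm (QS.map p ≫ t)) (UF.naturality b).symm
    have h1 : Function.Bijective (fun b : M ⟶ I => (adjK.homEquiv _ _) ((adjK.homEquiv _ _).symm p ≫ b)) :=
      (adjK.homEquiv _ _).bijective.comp
        ⟨fun b b' h => (cancel_epi _).1 h, fun y => ⟨inv ((adjK.homEquiv _ _).symm p) ≫ y, by simp⟩⟩
    have h2 : Function.Bijective (fun t : A ⟶ Fk.obj I => (adjD.homEquiv _ _).symm (QS.map t ≫ UF.app I)) :=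
      (adjD.homEquiv _ _).symm.bijective.comp
        (Function.Bijective.comp (g := fun t => t ≫ UF.app I)
          ⟨fun b b' h => (cancel_mono _).1 h, fun y => ⟨y ≫ inv (UF.app I), by simp⟩⟩ (hS A I hI))
    have h3 : Function.Bijective ((fun b : QX.obj M ⟶ QX.obj I => x ≫ b) ∘ QX.map) := by
      have e3 : ((fun b : QX.obj M ⟶ QX.obj I => x ≫ b) ∘ QX.map) =
          (fun t => (adjD.homEquiv _ _).symm (QS.map t ≫ UF.app I)) ∘
            fun b : M ⟶ I => (adjK.homEquiv _ _) ((adjK.homEquiv _ _).symm p ≫ b) := funext hb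
      rw [e3]
      exact h2.comp h1
    have h4 : Function.Bijective (fun b : QX.obj M ⟶ QX.obj I => x ≫ b) :=
      (Function.Bijective.of_comp_iff _ (hX M I hI)).1 h3
    refine ⟨fun b b' hbb' => ?_, fun y => ?_⟩
    · rw [← cancel_mono e.inv]
      refine h4.1 ?_
      simpa only [← Category.assoc] using congrArg (· ≫ e.inv) hbb'
    · obtain ⟨b, hb'⟩ := h4.2 (y ≫ e.inv)
      exact ⟨b ≫ e.hom, by simp [reassoc_of% hb']⟩
  exact (isIso_iff_coyoneda_map_bijective x).2 key

end Universal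

section Transpose

variable {T S Y X : Type u} [Category.{v} T] [Abelian T] [Category.{v} S] [Abelian S]
  [Category.{v} Y] [Abelian Y] [Category.{v} X] [Abelian X]
  {G : T ⥤ S} {E : T ⥤ Y} {H : Y ⥤ X} {F : X ⥤ S} {L : S ⥤ X}
  [G.Additive] [E.Additive] [H.Additive] [F.Additive] [L.Additive] (adj : L ⊣ F) (α : G ⟶ E ⋙ H ⋙ F)

theorem isIso_transpose_mapH₃ (hα : ∀ N, IsIso ((adj.homEquiv _ _).symm (α.app N)))
    (K : HomotopyCategory T (ComplexShape.up ℤ)) :
    IsIso (((KInj.mapHomotopyAdj adj).homEquiv _ _).symm ((mapH₃ _ α).app K)) := by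
  obtain ⟨C⟩ := K
  let φ : (L.mapHomologicalComplex (ComplexShape.up ℤ)).obj ((G.mapHomologicalComplex _).obj C) ⟶
      (H.mapHomologicalComplex _).obj ((E.mapHomologicalComplex _).obj C) :=
    { f := fun n => (adj.homEquiv _ _).symm (α.app (C.X n))
      comm' := fun m n _ => by
        show (adj.homEquiv _ _).symm _ ≫ H.map (E.map _) = L.map (G.map _) ≫ (adj.homEquiv _ _).symm _
        rw [← adj.homEquiv_naturality_right_symm, ← adj.homEquiv_naturality_left_symm]
        exact congrArg _ (α.naturality (C.d m n)).symm }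
  haveI : ∀ n, IsIso (φ.f n) := fun n => hα _
  haveI := HomologicalComplex.Hom.isIso_of_components φ
  have h : ((KInj.mapHomotopyAdj adj).homEquiv _ _).symm ((mapH₃ _ α).app ⟨C⟩) =
      (HomotopyCategory.quotient _ _).map φ := by
    rw [Adjunction.homEquiv_counit]
    simp only [mapH₃, Functor.mapHomotopyCategoryCompIso, NatTrans.comp_app,
      Functor.whiskerLeft_app, NatTrans.mapHomotopyCategory_app, KInj.mapHomotopyAdj]
    dsimp [Quotient.natIsoLift, Quotient.natTransLift]
    simp only [← Functor.map_comp]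
    erw [Functor.mapHomotopyCategory_map, ← Functor.map_comp]
    congr 1
    ext n
    simp [φ, Adjunction.homEquiv_counit]
    repeat erw [Category.id_comp]
    repeat erw [Category.comp_id]
    repeat erw [CategoryTheory.Functor.map_id]
    repeat erw [Category.id_comp]
    rfl
  rw [h]
  infer_instance

end Transpose

end GrothLib.BCDVcomp
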