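import Groth.Agent.Lib.BCDVcomp.Et
import Groth.Agent.Lib.BCDVcomp.Universal
import Groth.Agent.Lib.BCDVcomp.Homology
import Groth.Agent.Lib.BCQVcomp.EtaleQ

/-!
# The derived base change morphism along étale maps
-/

set_option autoImplicit false
set_option backward.isDefEq.respectTransparency false
set_option backward.isDefEq.respectTransparency.types false
set_option linter.style.haveILetI false

universe u

open CategoryTheory CategoryTheory.Limits AlgebraicGeometry
open HomotopyCategory (subcategoryAcyclic)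
attribute [local instance] HasDerivedCategory.standard

noncomputable section

namespace GrothLib.BCDVcomp

variable {X S Y T : Scheme.{u}}

theorem rightOrthogonal_pull_etale (e : Y ⟶ T) [Etale e]
    {K : HomotopyCategory (EtCoh.Ab T) (ComplexShape.up ℤ)} (hK : (subcategoryAcyclic (EtCoh.Ab T)).rightOrthogonal K) :
    (subcategoryAcyclic (EtCoh.Ab Y)).rightOrthogonal
      (((EtCoh.pull e).mapHomotopyCategory (ComplexShape.up ℤ)).obj K) := by
  haveI := GrothLib.Constructible.jcont e
  haveI := GrothLib.ExtZero.preservesFiniteLimits_extZero e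
  let adj := (EtShriek.extZeroAdj e).ofNatIsoRight (GrothLib.ExtZero.restrIsoPull e)
  haveI : (EtShriek.extZero e).IsLeftAdjoint := ⟨_, ⟨adj⟩⟩
  haveI : (EtShriek.extZero e).Additive := adj.left_adjoint_additive
  haveI : PreservesFiniteColimits (EtShriek.extZero e) := ⟨fun _ _ _ => inferInstance⟩
  exact KInj.rightOrthogonal_map adj hK

variable (g : T ⟶ S) (f : X ⟶ S) (h : Y ⟶ X) (e : Y ⟶ T)

theorem baseChange0_transpose (c : e ≫ g = h ≫ f) (N : EtCoh.Ab T) :
    ((EtCoh.pullPushAdj f).homEquiv _ _).symm ((EtBC.pushToPushPull g f h e c).app N) =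
      EtCoh.baseChange0 g f h e c N := by
  rw [pushToPushPull_app]
  rfl

theorem isIso_bcMap_of_etale [Etale f] (c : IsPullback e h g f) [PreservesFiniteLimits (EtCoh.pull e)]
    [PreservesFiniteLimits (EtCoh.pull f)]
    [DCoh.HasRpushEt T g] [DCoh.HasRpushEt Y h] [DCoh.HasRpushEt X f]
    (adj : EtBC.pullD f ⊣ DCoh.RpushEt X f) (K : DCoh.DEt T) :
    IsIso (EtBC.bcMap g f h e c.w adj K) := by
  haveI : Etale e := MorphismProperty.of_isPullback c.flip (inferInstance : Etale f)
  haveI := BCQVcomp.pull_additive f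
  let K₀ := (KInj.res (EtCoh.Ab T)).obj K
  let ε : DerivedCategory.Qh.obj K₀ ≅ K := asIso ((KInj.resAdj (EtCoh.Ab T)).counit.app K)
  rw [bcMap_isIso_congr f g h e c.w adj ε]
  have hK : (subcategoryAcyclic (EtCoh.Ab T)).rightOrthogonal K₀ := KInj.rightOrthogonal_res K
  haveI : IsIso ((U g).app K₀) := isIso_derivedUnit (DCoh.pushEtKh T g) hK
  have hE := rightOrthogonal_pull_etale e hK
  haveI : IsIso ((U h).app (((EtCoh.pull e).mapHomotopyCategory _).obj K₀)) :=
    isIso_derivedUnit (DCoh.pushEtKh Y h) hE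
  have hfac := bcAdj_fac f g h e c.w K₀
  let p := (mapH₃ (ComplexShape.up ℤ) (EtBC.pushToPushPull g f h e c.w)).app K₀
  have hp : IsIso ((adj.homEquiv _ _).symm (DerivedCategory.Qh.map p ≫ (U f).app _)) := by
    refine isIso_symm_of_resolutions (KInj.mapHomotopyAdj (EtCoh.pullPushAdj f)) (U f) adj
      (fun I => (subcategoryAcyclic (EtCoh.Ab X)).rightOrthogonal I)
      (fun D => ⟨_, KInj.rightOrthogonal_res D, ⟨asIso ((KInj.resAdj (EtCoh.Ab X)).counit.app D)⟩⟩)
      (fun Z I hI => hI.map_bijective_of_isTriangulated DerivedCategory.Qh Z)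
      (fun A I hI => (KInj.rightOrthogonal_map (EtCoh.pullPushAdj f) hI).map_bijective_of_isTriangulated
        DerivedCategory.Qh A)
      (fun I hI => isIso_derivedUnit (DCoh.pushEtKh X f) hI) p ?_
    refine isIso_transpose_mapH₃ (EtCoh.pullPushAdj f) _ (fun N => ?_) K₀
    rw [baseChange0_transpose]
    exact BCQVcomp.isIso_baseChange0_of_etale g f h e c N
  show IsIso ((adj.homEquiv _ _).symm _)
  have h2 : IsIso ((adj.homEquiv _ _).symm
      ((U g).app K₀ ≫ (EtBC.bcAdj g f h e c.w).app (DerivedCategory.Qh.obj K₀))) := by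
    rw [hfac, ← Category.assoc, ← Functor.map_comp, Adjunction.homEquiv_naturality_right_symm]
    refine @IsIso.comp_isIso _ _ _ _ _ _ _ hp ?_
    infer_instance
  rw [Adjunction.homEquiv_naturality_left_symm, isIso_comp_left_iff] at h2
  exact h2

theorem isIso_of_pull_covers {ι : Type u} (U : ι → X.Etale) (hU : EtCoh.Covers U)
    {F G : EtCoh.Ab X} (φ : F ⟶ G) (hφ : ∀ i, IsIso ((EtCoh.pull (U i).hom).map φ)) : IsIso φ := by
  refine GrothLib.EtSite.isIso_of_stalks φ fun Ω _ _ ξ => ?_
  obtain ⟨i, y, hy⟩ := hU (ξ.base default)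
  obtain ⟨t, -⟩ := GrothLib.EtSite.exists_fib ξ y hy
  have ht : t.left ≫ (U i).hom = ξ := Over.w t
  let ζ : Spec (CommRingCat.of Ω) ⟶ (U i).left := t.left
  let v : (U i).left ⟶ X := (U i).hom
  haveI : IsIso ((EtCoh.pull v).map φ) := hφ i
  haveI : IsIso ((EtCoh.pull v ⋙ EtCoh.stalk ζ).map φ) := Functor.map_isIso (EtCoh.stalk ζ) _
  have h1 := (NatIso.isIso_map_iff (GrothLib.EtSite.pullStalkIso ζ v) φ).1 inferInstance
  rw [← ConcreteCategory.isIso_iff_bijective]
  exact ht ▸ h1

theorem isIso_of_pullD_covers {ι : Type u} (U : ι → X.Etale) (hU : EtCoh.Covers U)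
    [∀ i, PreservesFiniteLimits (EtCoh.pull (U i).hom)]
    {K L : DCoh.DEt X} (φ : K ⟶ L) (hφ : ∀ i, IsIso ((EtBC.pullD (U i).hom).map φ)) : IsIso φ := by
  rw [DerivedCategory.isIso_iff]
  intro n
  refine isIso_of_pull_covers U hU _ fun i => ?_
  let v : (U i).left ⟶ X := (U i).hom
  haveI : PreservesFiniteLimits (EtCoh.pull v) := GrothLib.EtSite.pull_preservesFiniteLimits v
  haveI := BCQVcomp.pull_additive v
  haveI := BCQVcomp.pull_preservesFiniteColimits v
  haveI : IsIso ((EtBC.pullD v).map φ) := hφ i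
  haveI : IsIso ((EtBC.pullD v ⋙ DerivedCategory.homologyFunctor (EtCoh.Ab (U i).left) n).map φ) :=
    Functor.map_isIso (DerivedCategory.homologyFunctor (EtCoh.Ab (U i).left) n) _
  exact (NatIso.isIso_map_iff (homologyMapDerivedIso (EtCoh.pull v) n) φ).1 inferInstance

end GrothLib.BCDVcomp
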